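import Mathlib
import Groth.Prelude.Def_TFOne
import Groth.Prelude.Def_KLin
import Groth.Agent.Lib.Helper5.TFQ.SimpleIff
import Groth.Agent.Lib.Helper5.IntN.Num2
import Groth.Agent.Lib.Lead.CI.UnitStalk
import Groth.Agent.Lib.Lead.QC.SuppPullback

/-!
# Extensions of simple torsion-free rank one sheaves on complementary subcurves
-/

set_option autoImplicit false
set_option linter.style.haveILetI false
universe u
open CategoryTheory CategoryTheory.Limits AlgebraicGeometry TopologicalSpace Opposite

namespace Groth.Agent.H5.TFExt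

open Groth.Agent.LD Groth.Agent.LD.QC Groth.Agent.H5.Dec Groth.Agent.H5.Snap Groth.Agent.H5.TFQ

attribute [-instance] Groth.Agent.LD.QC.stalkModule

section Top

/-- a closed embedding onto a union of irreducible components maps generic points to generic
points. -/
theorem map_mem_genericPoints {X Z' : Type*} [TopologicalSpace X] [TopologicalSpace Z']
    (hfin : (irreducibleComponents X).Finite) (i : Z' → X) (hi : Topology.IsClosedEmbedding i)
    (𝒮 : Set (Set X)) (h𝒮 : 𝒮 ⊆ irreducibleComponents X) (hr : Set.range i = ⋃₀ 𝒮)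
    (ζ : Z') (hζ : ζ ∈ genericPoints Z') : i ζ ∈ genericPoints X := by
  change closure {i ζ} ∈ irreducibleComponents X
  have hT' : closure {ζ} ∈ irreducibleComponents Z' := hζ
  have hcl : closure {i ζ} = i '' closure {ζ} := by
    rw [← hi.closure_image_eq, Set.image_singleton]
  have hTirr : IsIrreducible (closure ({i ζ} : Set X)) := isIrreducible_singleton.closure
  have h𝒮fin : 𝒮.Finite := hfin.subset h𝒮
  have hsub : closure {i ζ} ⊆ ⋃₀ (h𝒮fin.toFinset : Set (Set X)) := by
    rw [Set.Finite.coe_toFinset, ← hr, hcl]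
    exact Set.image_subset_range _ _
  obtain ⟨C, hC, hTC⟩ := (isIrreducible_iff_sUnion_isClosed.mp hTirr) h𝒮fin.toFinset
    (fun z hz => isClosed_of_mem_irreducibleComponents z (h𝒮 (h𝒮fin.mem_toFinset.mp hz))) hsub
  have hC𝒮 : C ∈ 𝒮 := h𝒮fin.mem_toFinset.mp hC
  have hCirr := h𝒮 hC𝒮
  have hCr : C ⊆ Set.range i := by
    rw [hr]; exact Set.subset_sUnion_of_mem hC𝒮
  have hC'irr : IsIrreducible (i ⁻¹' C) := by
    refine ⟨⟨ζ, hTC (subset_closure rfl)⟩, ?_⟩
    rw [isPreirreducible_iff_isClosed_union_isClosed]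
    intro z₁ z₂ hz₁ hz₂ hsub
    have h1 : IsClosed (i '' z₁) := hi.isClosedMap z₁ hz₁
    have h2 : IsClosed (i '' z₂) := hi.isClosedMap z₂ hz₂
    have hC12 : C ⊆ i '' z₁ ∪ i '' z₂ := by
      intro c hc
      obtain ⟨c', rfl⟩ := hCr hc
      rcases hsub hc with h | h
      · exact Or.inl ⟨c', h, rfl⟩
      · exact Or.inr ⟨c', h, rfl⟩
    rcases (isPreirreducible_iff_isClosed_union_isClosed.mp hCirr.1.2) _ _ h1 h2 hC12 with h | h
    · left
      intro c' hc'
      obtain ⟨c'', hc'', he⟩ := h hc'
      rwa [← hi.injective he]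
    · right
      intro c' hc'
      obtain ⟨c'', hc'', he⟩ := h hc'
      rwa [← hi.injective he]
  have hle : closure {ζ} ≤ i ⁻¹' C := by
    intro t ht
    apply hTC
    rw [hcl]
    exact ⟨t, ht, rfl⟩
  have hge : i ⁻¹' C ≤ closure {ζ} := hT'.2 hC'irr hle
  have heq : closure {i ζ} = C := by
    apply subset_antisymm hTC
    intro c hc
    obtain ⟨c', rfl⟩ := hCr hc
    rw [hcl]
    exact ⟨c', hge hc, rfl⟩
  rw [heq]
  exact hCirr

end Top

section Push

variable {X Z : Scheme.{u}} (i : Z ⟶ X) [IsClosedImmersion i]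

/-- the stalk of a direct image along a closed immersion at an image point. -/
theorem subsingleton_stalk_push_iff (J : Z.Modules) (z : Z) :
    Subsingleton (((Scheme.Modules.pushforward i).obj J).presheaf.stalk (i z)) ↔
      Subsingleton (J.presheaf.stalk z) := by
  have hbij := (ConcreteCategory.isIso_iff_bijective
      (Groth.Agent.H4.SPush1.pushStalkHom i z J)).1
      (Groth.Agent.H4.SPush1.isIso_pushStalkHom i z i.isClosedEmbedding.isInducing J)
  constructor
  · intro h
    exact @Function.Surjective.subsingleton _ _ _ h hbij.2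
  · intro h
    exact @Function.Injective.subsingleton _ _ _ hbij.1 h

theorem mem_support_push_of_generic (J : Z.Modules) (hJ : TFOne.IsRkOne Z J) (ζ : Z)
    (hζ : ζ ∈ genericPoints Z) : i ζ ∈ CohB1.support ((Scheme.Modules.pushforward i).obj J) := by
  intro hsub
  rw [subsingleton_stalk_push_iff] at hsub
  obtain ⟨e⟩ := hJ ζ hζ
  have h10 : (1 : Z.presheaf.stalk ζ) = 0 := by
    have h1 : e.symm 1 = e.symm 0 := Subsingleton.elim _ _
    exact e.symm.injective h1
  exact one_ne_zero h10

theorem not_isZero_push (J : Z.Modules) (hJ : ¬ IsZero J) :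
    ¬ IsZero ((Scheme.Modules.pushforward i).obj J) := by
  intro h
  apply hJ
  haveI := Groth.Agent.H7.ClImmMod.faithful_pushforward i
  rw [IsZero.iff_id_eq_zero]
  apply (Scheme.Modules.pushforward i).map_injective
  exact h.eq_of_src _ _

/-- morphisms into the direct image of a torsion-free module from a module whose stalks at the
generic points of the subscheme vanish are zero. -/
theorem hom_push_eq_zero [IsReduced Z] [IsLocallyNoetherian Z] (A : X.Modules) (hA : Coh.IsCoh A)
    (J : Z.Modules) (hJc : Coh.IsCoh J) (hJtf : TorSh.IsTorsionFree J)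
    (hgen : ∀ ζ ∈ genericPoints Z, Subsingleton (A.presheaf.stalk (i ζ)))
    (ψ : A ⟶ (Scheme.Modules.pushforward i).obj J) : ψ = 0 := by
  haveI := hA.1
  have h0 : ((Scheme.Modules.pullbackPushforwardAdjunction i).homEquiv A J).symm ψ = 0 := by
    apply eq_zero_of_generic (qc_pullback i A) hJc hJtf
    intro ζ hζ a
    haveI : Subsingleton (((Scheme.Modules.pullback i).obj A).presheaf.stalk ζ) := by
      by_contra hns
      exact ((support_pullback i A hA.2 ζ).mp hns) (hgen ζ hζ)
    rw [Subsingleton.elim a 0, sf_map_zero]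
  have h1 : ψ = (Scheme.Modules.pullbackPushforwardAdjunction i).homEquiv A J 0 := by
    rw [← h0, Equiv.apply_symm_apply]
  rw [h1, Adjunction.homEquiv_unit, Functor.map_zero, comp_zero]

end Push

section SES

variable {X : Scheme.{u}} [IsReduced X]

theorem subsingleton_stalk_left {S : ShortComplex X.Modules} (hS : S.ShortExact)
    (hM : TFOne.IsRkOne X S.X₂) (η : X) (hη : η ∈ genericPoints X)
    (hsupp : η ∈ CohB1.support S.X₃) : Subsingleton (S.X₁.presheaf.stalk η) := by
  haveI := hS.mono_f
  haveI := hS.epi_g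
  have hinj := injective_stalk_of_rkOne hM S.g η hη hsupp
  apply subsingleton_of_forall_eq_zero
  intro v
  apply sf_injective S.f η
  apply hinj
  rw [sf_map_zero, sf_map_zero, ← sf_comp, S.zero, sf_zero]

end SES

end Groth.Agent.H5.TFExt
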