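import Mathlib
import Groth.Agent.Lib.Helper5.TFExt.Basic

/-!
# Extensions of simple torsion-free rank one sheaves on subcurves: simple iff non-split
-/

set_option autoImplicit false
set_option linter.style.haveILetI false
universe u
open CategoryTheory CategoryTheory.Limits AlgebraicGeometry TopologicalSpace Opposite

namespace Groth.Agent.H5.TFExt

open Groth.Agent.LD Groth.Agent.LD.QC Groth.Agent.H5.Dec Groth.Agent.H5.Snap Groth.Agent.H5.TFQ
open Groth.Agent.H5.IntN

attribute [-instance] Groth.Agent.LD.QC.stalkModule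

theorem isReduced_subsch {X : Scheme.{u}} (Z : Set X) (hZ : IsClosed Z) :
    IsReduced (VecSt.subsch X Z hZ) :=
  Groth.Agent.H5.AlgSp.isReduced_subscheme_vanishingIdeal ⟨Z, hZ⟩

theorem range_subschι {X : Scheme.{u}} (Z : Set X) (hZ : IsClosed Z) :
    Set.range (VecSt.subschι X Z hZ) = Z :=
  (Scheme.IdealSheafData.range_subschemeι _).trans
    (Scheme.IdealSheafData.coe_support_vanishingIdeal _)

variable (k : Type u) [Field k] {X : Scheme.{u}} [X.Over (Spec (CommRingCat.of k))]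
  [IsProper (X ↘ Spec (CommRingCat.of k))] [IsReduced X]

/-- endomorphisms of the direct image of a simple sheaf on a closed subscheme are scalars. -/
theorem endo_push_scalar (Y : Set X) (hY : IsClosed Y)
    (I : (VecSt.subsch X Y hY).Modules)
    (hIs : TFOne.IsSimple (VecSt.subsch X Y hY) k
      (VecSt.subschι X Y hY ≫ (X ↘ Spec (CommRingCat.of k))) I)
    (φ : (Coh.push (VecSt.subschι X Y hY)).obj I ⟶ (Coh.push (VecSt.subschι X Y hY)).obj I) :
    ∃ c : k, φ = c • 𝟙 _ := by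
  letI oY : (VecSt.subsch X Y hY).Over (Spec (CommRingCat.of k)) :=
    ⟨VecSt.subschι X Y hY ≫ (X ↘ Spec (CommRingCat.of k))⟩
  haveI : (VecSt.subschι X Y hY).IsOver (Spec (CommRingCat.of k)) := ⟨rfl⟩
  let FF := Groth.Agent.LD.CI.fullyFaithfulPush (VecSt.subschι X Y hY)
  obtain ⟨c, hc⟩ := hIs.2 (FF.preimage φ)
  refine ⟨c, ?_⟩
  have h1 : FF.preimage φ = c • 𝟙 I := hc.trans (KLin.smul_id I c).symm
  have h2 : (Scheme.Modules.pushforward (VecSt.subschι X Y hY)).map (FF.preimage φ) = φ :=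
    FF.map_preimage φ
  rw [← h2, h1, Functor.map_smul, CategoryTheory.Functor.map_id]

theorem main (Y Z : Set X) (hY : IsClosed Y) (hZ : IsClosed Z)
    (hZs : VecSt.IsSubcurve X Z)
    (M : X.Modules) (hM : TFOne.IsTF1 X M)
    (I : (VecSt.subsch X Y hY).Modules) (hI : TFOne.IsTF1 (VecSt.subsch X Y hY) I)
    (hIs : TFOne.IsSimple (VecSt.subsch X Y hY) k
      (VecSt.subschι X Y hY ≫ (X ↘ Spec (CommRingCat.of k))) I)
    (J : (VecSt.subsch X Z hZ).Modules) (hJ : TFOne.IsTF1 (VecSt.subsch X Z hZ) J)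
    (hJs : TFOne.IsSimple (VecSt.subsch X Z hZ) k
      (VecSt.subschι X Z hZ ≫ (X ↘ Spec (CommRingCat.of k))) J)
    (a : (Coh.push (VecSt.subschι X Y hY)).obj I ⟶ M)
    (b : M ⟶ (Coh.push (VecSt.subschι X Z hZ)).obj J)
    (w : a ≫ b = 0) (hex : (ShortComplex.mk a b w).ShortExact) :
    TFOne.IsSimple X k (X ↘ Spec (CommRingCat.of k)) M ↔ ¬ IsSplitEpi b := by
  classical
  haveI := isLocallyNoetherian_of_proper (X := X) k
  haveI := Groth.Agent.LD.Curve.compactSpace k X
  haveI : IsNoetherian X := { }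
  haveI := isReduced_subsch Y hY
  haveI := isReduced_subsch Z hZ
  haveI : IsLocallyNoetherian (VecSt.subsch X Y hY) :=
    LocallyOfFiniteType.isLocallyNoetherian (VecSt.subschι X Y hY)
  haveI : IsLocallyNoetherian (VecSt.subsch X Z hZ) :=
    LocallyOfFiniteType.isLocallyNoetherian (VecSt.subschι X Z hZ)
  haveI : Mono a := hex.mono_f
  haveI : Epi b := hex.epi_g
  have hAc : Coh.IsCoh ((Coh.push (VecSt.subschι X Y hY)).obj I) :=
    isCoh_pushforward_closedImmersion (VecSt.subschι X Y hY) I hI.1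
  have hBc : Coh.IsCoh ((Coh.push (VecSt.subschι X Z hZ)).obj J) :=
    isCoh_pushforward_closedImmersion (VecSt.subschι X Z hZ) J hJ.1
  -- generic points of `Z` are generic in `X`
  have hgenZ : ∀ ζ ∈ genericPoints (VecSt.subsch X Z hZ),
      (VecSt.subschι X Z hZ) ζ ∈ genericPoints X := by
    obtain ⟨𝒮, h𝒮, -, hZ𝒮⟩ := hZs
    intro ζ hζ
    exact map_mem_genericPoints NoetherianSpace.finite_irreducibleComponents
      (VecSt.subschι X Z hZ) (VecSt.subschι X Z hZ).isClosedEmbedding 𝒮 h𝒮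
      ((range_subschι Z hZ).trans hZ𝒮) ζ hζ
  have hsubZ : ∀ ζ ∈ genericPoints (VecSt.subsch X Z hZ),
      Subsingleton (((Coh.push (VecSt.subschι X Y hY)).obj I).presheaf.stalk
        ((VecSt.subschι X Z hZ) ζ)) := by
    intro ζ hζ
    exact subsingleton_stalk_left hex hM.2.2 _ (hgenZ ζ hζ)
      (mem_support_push_of_generic (VecSt.subschι X Z hZ) J hJ.2.2 ζ hζ)
  have F1 : ∀ ψ : (Coh.push (VecSt.subschι X Y hY)).obj I ⟶
      (Coh.push (VecSt.subschι X Z hZ)).obj J, ψ = 0 :=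
    fun ψ => hom_push_eq_zero (VecSt.subschι X Z hZ) _ hAc J hJ.1 hJ.2.1 hsubZ ψ
  have hA0 : ¬ IsZero ((Coh.push (VecSt.subschι X Y hY)).obj I) :=
    not_isZero_push (VecSt.subschι X Y hY) I hIs.1
  have hB0 : ¬ IsZero ((Coh.push (VecSt.subschι X Z hZ)).obj J) :=
    not_isZero_push (VecSt.subschι X Z hZ) J hJs.1
  constructor
  · intro hs hsplit
    obtain ⟨⟨s, hs1⟩⟩ := hsplit
    obtain ⟨c, hc⟩ := hs.2 (b ≫ s)
    have hc' : b ≫ s = c • 𝟙 M := hc.trans (KLin.smul_id M c).symm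
    by_cases hc0 : c = 0
    · apply hB0
      rw [IsZero.iff_id_eq_zero, ← hs1]
      have : s = 0 := by
        rw [← cancel_epi b, hc', hc0, zero_smul, comp_zero]
      rw [this, zero_comp]
    · apply hA0
      rw [IsZero.iff_id_eq_zero, ← cancel_mono a, zero_comp, Category.id_comp]
      have h1 : a ≫ (b ≫ s) = 0 := by rw [← Category.assoc, w, zero_comp]
      rw [hc', Linear.comp_smul, Category.comp_id] at h1
      have : a = c⁻¹ • (c • a) := by rw [smul_smul, inv_mul_cancel₀ hc0, one_smul]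
      rw [this, h1, smul_zero]
  · intro hns
    refine ⟨fun h0 => hB0 (IsZero.of_epi b h0), ?_⟩
    intro φ
    have hexact := hex.exact
    have h1 : a ≫ φ ≫ b = 0 := F1 _
    let φI := hexact.lift (a ≫ φ) (by rw [Category.assoc]; exact h1)
    have hφI : φI ≫ a = a ≫ φ := hexact.lift_f _ _
    let φJ := hexact.desc (φ ≫ b) h1
    have hφJ : b ≫ φJ = φ ≫ b := hexact.g_desc _ _
    obtain ⟨cI, hcI⟩ := endo_push_scalar k Y hY I hIs φI
    obtain ⟨cJ, hcJ⟩ := endo_push_scalar k Z hZ J hJs φJ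
    have h2 : a ≫ (φ - cI • 𝟙 M) = 0 := by
      rw [Preadditive.comp_sub, ← hφI, hcI, Linear.smul_comp, Linear.comp_smul, Category.id_comp,
        Category.comp_id, sub_self]
    let ψ := hexact.desc (φ - cI • 𝟙 M) h2
    have hψ : b ≫ ψ = φ - cI • 𝟙 M := hexact.g_desc _ _
    have h3 : ψ ≫ b = (cJ - cI) • 𝟙 _ := by
      rw [← cancel_epi b, ← Category.assoc, hψ, Preadditive.sub_comp, ← hφJ, hcJ,
        Linear.smul_comp, Linear.comp_smul, Linear.comp_smul, Category.id_comp, Category.comp_id,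
        sub_smul]
    have hc : cJ = cI := by
      by_contra hne
      apply hns
      refine ⟨⟨⟨(cJ - cI)⁻¹ • ψ, ?_⟩⟩⟩
      rw [Linear.smul_comp, h3, smul_smul, inv_mul_cancel₀ (sub_ne_zero.mpr hne), one_smul]
    have h4 : ψ ≫ b = 0 := by rw [h3, hc, sub_self, zero_smul]
    have h5 : ψ = 0 := by
      apply eq_zero_of_generic hBc.1 hM.1 hM.2.1
      intro η hη v
      by_cases hsupp : η ∈ CohB1.support ((Coh.push (VecSt.subschι X Z hZ)).obj J)
      · apply injective_stalk_of_rkOne hM.2.2 b η hη hsupp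
        rw [← sf_comp, h4, sf_zero, sf_map_zero]
      · haveI : Subsingleton (((Coh.push (VecSt.subschι X Z hZ)).obj J).presheaf.stalk η) :=
          not_not.mp hsupp
        rw [Subsingleton.elim v 0, sf_map_zero]
    refine ⟨cI, ?_⟩
    have h6 : φ - cI • 𝟙 M = 0 := by rw [← hψ, h5, comp_zero]
    rw [← KLin.smul_id]
    exact sub_eq_zero.mp h6

end Groth.Agent.H5.TFExt
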